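import Cfsg.Agent.Geo.OrthSubfieldMatrix

/-!
Subfield subgroups of orthogonal groups in characteristic two from dimension eight, odd index: a long
root involution, a short one, and the central involution of their dihedral group.
-/

set_option autoImplicit false
set_option linter.unusedSectionVars false
set_option linter.style.haveILetI false

namespace CfsgLib.Geo.OS.LowTwo

open QuadraticMap CfsgLib.Forms CfsgLib.Quad CfsgLib.Geo.OS

variable {F : Type*} [Field F] {V : Type*} [AddCommGroup V] [Module F V] [FiniteDimensional F V]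
  [Finite F] {Q : QuadraticForm F V} {F₀ : Subfield F} {R : Submodule F₀ V}
  (hR : RatStr Q F₀ R) (hQ : (polarBilin Q).Nondegenerate) (hn : 8 ≤ Module.finrank F V)

include hR hQ hn

/-- For odd prime index a rational element maps rational vectors to rational vectors. -/
theorem preserves {r : ℕ} (hr : r.Prime) (hr2 : r ≠ 2) (hcard : Nat.card F = Nat.card F₀ ^ r)
    {g : oGroup Q} (hg : g ∈ ratStab Q R) {x : V} (hx : x ∈ R) : g.1 x ∈ R := by
  obtain ⟨d, hd0, hd⟩ := hg
  obtain ⟨u, -, hu, -⟩ := exists_rat_perp hR hQ (by omega) ∅ (by simp; omega)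
  have hd2 := sq_mem_of_scaled hR hQ u.2 (fun h0 => hu (by
    rw [show u = 0 from Subtype.ext h0]; exact zero_mem _)) hd
  have hdF : d ∈ F₀ := by
    by_contra hd'
    have hall := eq_univ_of_subring' hr hcard
      (S := {x | ∃ a ∈ F₀, ∃ b ∈ F₀, x = a + b * d})
      (fun x hx => ⟨x, hx, 0, F₀.zero_mem, by ring⟩)
      (by rintro _ ⟨a, ha, b, hb, rfl⟩ _ ⟨a', ha', b', hb', rfl⟩
          exact ⟨a + a', F₀.add_mem ha ha', b + b', F₀.add_mem hb hb', by ring⟩)
      (by rintro _ ⟨a, ha, b, hb, rfl⟩ _ ⟨a', ha', b', hb', rfl⟩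
          exact ⟨a * a' + b * b' * (d * d),
            F₀.add_mem (F₀.mul_mem ha ha') (F₀.mul_mem (F₀.mul_mem hb hb') hd2),
            a * b' + b * a', F₀.add_mem (F₀.mul_mem ha hb') (F₀.mul_mem hb ha'), by ring⟩)
      (c := d) ⟨0, F₀.zero_mem, 1, F₀.one_mem, by ring⟩ hd'
    let φ : F₀ × F₀ → F := fun p => (p.1 : F) + (p.2 : F) * d
    have hsurj : Function.Surjective φ := fun x => by
      obtain ⟨a, ha, b, hb, e⟩ := hall x
      exact ⟨(⟨a, ha⟩, ⟨b, hb⟩), e.symm⟩
    have h1 := Nat.card_le_card_of_surjective φ hsurj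
    rw [Nat.card_prod, hcard, ← pow_two] at h1
    have := Nat.pow_le_pow_iff_right (Finite.one_lt_card (α := F₀)) |>.1 h1
    have := hr.two_le
    omega
  have h1 := R.smul_mem (⟨d⁻¹, F₀.inv_mem hdF⟩ : F₀) (hd x hx)
  change d⁻¹ • d • g.1 x ∈ R at h1
  rwa [smul_smul, inv_mul_cancel₀ hd0, one_smul] at h1

omit hn in
/-- The rational space moved by an element preserving the rational vectors. -/
theorem moved_rat {z : oGroup Q} (hzp : ∀ x ∈ R, z.1 x ∈ R) :
    ∃ S : Submodule F₀ R, movedSp z = ext S := by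
  have _ := hQ
  refine ⟨Submodule.span F₀ (Set.range fun w : R =>
    (⟨z.1 w.1 - w.1, R.sub_mem (hzp w.1 w.2) w.2⟩ : R)), le_antisymm (fun v hv => ?_)
      (ext_le fun v hv => ?_)⟩
  · obtain ⟨u, rfl⟩ := mem_movedSp.1 hv
    refine ext_induction (S := (⊤ : Submodule F₀ R)) (p := fun u => z.1 u - u ∈ ext _)
      (by rw [map_zero, sub_zero]; exact zero_mem _)
      (fun a b ha hb => by
        rw [map_add, show z.1 a + z.1 b - (a + b) = (z.1 a - a) + (z.1 b - b) by abel]
        exact add_mem ha hb)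
      (fun c w _ => by
        rw [map_smul, ← smul_sub]
        exact Submodule.smul_mem _ c (mem_ext (x := (⟨z.1 w.1 - w.1,
          R.sub_mem (hzp w.1 w.2) w.2⟩ : R)) (Submodule.subset_span ⟨w, rfl⟩)))
      (by rw [hR.ext_top]; trivial)
  · induction hv using Submodule.span_induction with
    | mem w hw => obtain ⟨u, rfl⟩ := hw; exact mem_movedSp.2 ⟨u.1, rfl⟩
    | zero => exact zero_mem _
    | add a b _ _ ha hb => exact add_mem ha hb
    | smul t a _ ha => exact Submodule.smul_mem _ (t : F) ha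

/-- The singular vectors of a rational totally polar-isotropic subspace: all but at most one dimension. -/
theorem exists_sing_part (h2 : (2 : F) = 0) {S : Submodule F₀ R}
    (hS : ∀ a ∈ S, ∀ b ∈ S, polar Q a.1 b.1 = 0) :
    ∃ S1 : Submodule F₀ R, S1 ≤ S ∧ (∀ a ∈ S1, Q a.1 = 0) ∧
      Module.finrank F₀ S ≤ Module.finrank F₀ S1 + 1 := by
  haveI := hR.finite
  haveI : Module.Finite F₀ R := Module.Finite.of_finite
  have _ := hn
  have _ := hQ
  let S1 : Submodule F₀ R :=
    { carrier := {a | a ∈ S ∧ Q a.1 = 0}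
      add_mem' := fun {a b} ha hb => ⟨S.add_mem ha.1 hb.1, by
        rw [show ((a + b : R) : V) = a.1 + b.1 from rfl, quad_add, ha.2, hb.2, hS a ha.1 b hb.1,
          add_zero, add_zero]⟩
      zero_mem' := ⟨S.zero_mem, QuadraticMap.map_zero Q⟩
      smul_mem' := fun t a ha => ⟨S.smul_mem t ha.1, by
        rw [show ((t • a : R) : V) = (t : F) • a.1 from rfl, quad_smul, ha.2, mul_zero]⟩ }
  refine ⟨S1, fun a ha => ha.1, fun a ha => ha.2, ?_⟩
  by_cases hall : ∀ a ∈ S, Q a.1 = 0
  · exact (Submodule.finrank_mono (show S ≤ S1 from fun a ha => ⟨ha, hall a ha⟩)).trans (Nat.le_succ _)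
  push Not at hall
  obtain ⟨a, ha, hQa⟩ := hall
  haveI : CharP F₀ 2 := CharTwo.of_one_ne_zero_of_two_eq_zero one_ne_zero (Subtype.ext h2)
  have hle : S ≤ S1 ⊔ Submodule.span F₀ {a} := fun v hv => by
    obtain ⟨c, hc⟩ := isSquare_char_two (ratForm hR v * (ratForm hR a)⁻¹)
    refine Submodule.mem_sup.2 ⟨v + c • a, ⟨S.add_mem hv (S.smul_mem _ ha),
      (ratForm_eq_zero hR).1 ?_⟩, -(c • a),
      Submodule.neg_mem _ (Submodule.smul_mem _ _ (Submodule.mem_span_singleton_self a)),
      by abel⟩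
    rw [quad_add, quad_smul, polar_smul_right, (ratForm_polar_eq_zero hR).2 (hS v hv a ha),
      smul_zero, add_zero, ← hc, mul_assoc, inv_mul_cancel₀ (fun h => hQa ((ratForm_eq_zero hR).1 h)),
      mul_one, CharTwo.add_self_eq_zero]
  have h1 := Submodule.finrank_mono hle
  have h3 := Submodule.finrank_add_le_finrank_add_finrank S1 (Submodule.span F₀ {a})
  have h4 : Module.finrank F₀ (Submodule.span F₀ {a}) ≤ 1 :=
    (finrank_span_le_card ({a} : Set R)).trans (by simp)
  omega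

variable {M : Subgroup (oGroup Q)} (hM : ratStab Q R ⊓ commutator (oGroup Q) ≤ M)
  (hMK : M ≤ commutator (oGroup Q)) (hG : RatRoots Q R M)

include hM hMK hG

set_option maxHeartbeats 1000000 in
-- one long proof
/-- No irrational root elements at rational centres: inside the subfield subgroup. -/
theorem le_ratStab (h2 : (2 : F) = 0) (hpres : ∀ g ∈ ratStab Q R, ∀ x ∈ R, g.1 x ∈ R) :
    M ≤ ratStab Q R := by
  classical
  haveI := hR.finite
  haveI : Module.Finite F₀ R := Module.Finite.of_finite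
  haveI : Finite V := Module.finite_of_finite F
  haveI : Finite (oGroup Q) := Finite.of_injective (fun g => (g.1 : V → V)) fun a b e =>
    Subtype.ext (LinearEquiv.ext (congrFun e))
  have hn7 : 7 ≤ Module.finrank F V := by omega
  intro g hg
  obtain ⟨e1, q1, s1, -⟩ := exists_rat_perp hR hQ hn7 ∅ (by simp; omega)
  obtain ⟨e2, q2, s2, p2⟩ := exists_rat_perp hR hQ hn7 {e1} (by simp; omega)
  have he10 : e1 ≠ 0 := fun h => s1 (h ▸ zero_mem _)
  have he20 : e2 ≠ 0 := fun h => s2 (h ▸ zero_mem _)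
  have c12 : polar Q e1.1 e2.1 = 0 := p2 e1 (by simp)
  obtain ⟨w, hwK, hwq⟩ := exists_aniso_of_finrank (hR.ratForm_nondeg hQ)
    (K := perpS (ratForm hR) (Submodule.span F₀ (({e1} : Finset R) : Set R))) (by
      have := finrank_rat_perp hR hQ hn7 {e1}
      have : ({e1} : Finset R).card = 1 := Finset.card_singleton e1
      have := hR.finrank_eq
      omega)
  have hQw : Q w.1 ≠ 0 := fun h => hwq ((ratForm_eq_zero hR).2 h)
  have c1w : polar Q e1.1 w.1 = 0 :=
    (ratForm_polar_eq_zero hR).1 (hwK e1 (Submodule.subset_span (by simp)))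
  set x := siegel Q e1.1 e2.1
  set y0 := siegel Q e1.1 w.1
  have hsq : ∀ {a : R}, polar Q e1.1 a.1 = 0 →
      siegel Q e1.1 a.1 * siegel Q e1.1 a.1 = 1 := fun {a} hea => by
    rw [siegel_mul q1 hea hea, ← two_smul F a.1, h2, zero_smul, siegel_zero q1]
  have hxx : x * x = 1 := hsq c12
  have hxM : x ∈ M := siegel_rat_mem hR hQ hn7 hM e1.2 q1 e2.2 c12
  have hy0M : y0 ∈ M := siegel_rat_mem hR hQ hn7 hM e1.2 q1 w.2 c1w
  have hxs : ∀ v, x.1 v - v = polar Q v e1.1 • e2.1 - polar Q v e2.1 • e1.1 := fun v => by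
    rw [siegel_apply q1 c12, q2, zero_mul, add_zero]; abel
  have hys : ∀ v, y0.1 v - v =
      polar Q v e1.1 • w.1 - (polar Q v w.1 + Q w.1 * polar Q v e1.1) • e1.1 := fun v => by
    rw [siegel_apply q1 c1w]; abel
  -- the moved spaces
  have hmx : ∀ v ∈ movedSp x, Q v = 0 := fun v hv => by
    obtain ⟨u, rfl⟩ := mem_movedSp.1 hv
    rw [hxs, sub_eq_add_neg, ← neg_smul, quad_add, quad_smul, quad_smul, q1, q2, polar_smul_left,
      polar_smul_right, polar_comm (⇑Q) e2.1 e1.1, c12]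
    simp
  have hmxY : movedSp x ≤ ext (Submodule.span F₀ (({e1, e2} : Finset R) : Set R)) := fun v hv => by
    obtain ⟨u, rfl⟩ := mem_movedSp.1 hv
    rw [hxs]
    exact Submodule.sub_mem _ (Submodule.smul_mem _ _ (mem_ext (Submodule.subset_span (by simp))))
      (Submodule.smul_mem _ _ (mem_ext (Submodule.subset_span (by simp))))
  have he2x : e2.1 ∈ movedSp x := by
    obtain ⟨p, -, hp1, hp2⟩ := exists_rat_dual hR hQ hn7 {e2} q1 (fun h => by
      obtain ⟨t, ht⟩ := Submodule.mem_span_singleton.1 (by simpa using h)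
      rcases eq_or_ne t 0 with rfl | ht0
      · exact he10 (by rw [← ht, zero_smul])
      · exact s2 (by
          simp only [Finset.coe_singleton]
          exact Submodule.mem_span_singleton.2 ⟨t⁻¹, by
            rw [← ht, smul_smul, inv_mul_cancel₀ ht0, one_smul]⟩)) (by simpa using (by
        rw [polar_comm]; exact c12 : polar Q e2.1 e1.1 = 0))
    exact mem_movedSp.2 ⟨p.1, by
      rw [hxs, polar_comm (⇑Q) p.1, hp1, polar_comm (⇑Q) p.1, hp2 e2 (by simp), zero_smul,
        sub_zero, one_smul]⟩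
  obtain ⟨v1, hv1⟩ : ∃ v, Q (y0.1 v - v) ≠ 0 := by
    obtain ⟨p, -, hp1, -⟩ := exists_rat_dual hR hQ hn7 ∅ q1 (by simpa using he10) (by simp)
    refine ⟨p.1, ?_⟩
    rw [hys, polar_comm (⇑Q) p.1 e1.1, hp1, one_smul, sub_eq_add_neg, ← neg_smul, quad_add,
      quad_smul, q1, polar_smul_right, polar_comm (⇑Q) w.1 e1.1, c1w]
    simpa using hQw
  have hy0line : ∀ v ∈ movedSp y0, Q v = 0 → ∃ t : F, v = t • e1.1 := fun v hv hQv => by
    obtain ⟨u, rfl⟩ := mem_movedSp.1 hv
    rw [hys, sub_eq_add_neg, ← neg_smul, quad_add, quad_smul, quad_smul, q1, polar_smul_left,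
      polar_smul_right, polar_comm (⇑Q) w.1 e1.1, c1w] at hQv
    simp only [smul_zero, mul_zero, add_zero, mul_eq_zero, hQw, or_false, or_self] at hQv
    refine ⟨-(polar Q u w.1), ?_⟩
    rw [hys, hQv, zero_smul, mul_zero, add_zero, zero_sub, neg_smul]
  set y := g * y0 * g⁻¹ with hy
  have hyM : y ∈ M := mul_mem (mul_mem hg hy0M) (inv_mem hg)
  have hyy : y * y = 1 := by
    rw [hy, show g * y0 * g⁻¹ * (g * y0 * g⁻¹) = g * (y0 * y0) * g⁻¹ by group, hsq c1w, mul_one,
      mul_inv_cancel]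
  have hmy : movedSp y = (movedSp y0).map g.1.toLinearMap := movedSp_conj g y0
  have hclos : Subgroup.closure {x, y} ≤ M := by
    refine (Subgroup.closure_le _).2 ?_
    rintro _ (rfl | rfl)
    exacts [hxM, hyM]
  rcases dihedral_cases hxx hyy with ⟨k, -, hk⟩ | ⟨z, hzmem, hzz, hz1, hzx, hzy, -⟩
  · exfalso
    have h1 : g.1 (y0.1 v1 - v1) ∈ movedSp y := hmy ▸ ⟨_, mem_movedSp.2 ⟨v1, rfl⟩, rfl⟩
    rw [← hk, movedSp_conj] at h1
    obtain ⟨v, hv, e⟩ := h1
    refine hv1 ?_
    rw [← g.2 (y0.1 v1 - v1), ← e]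
    exact (k.2 v).trans (hmx v hv)
  -- the central involution is rational
  have hzM : z ∈ M := hclos hzmem
  have hzR : z ∈ ratStab Q R := by
    have h1 : z.1 e2.1 ∈ movedSp x := by
      obtain ⟨p, hp⟩ := mem_movedSp.1 he2x
      exact mem_movedSp.2 ⟨z.1 p, by rw [← apply_comm hzx, ← map_sub, hp]⟩
    have hY1 : Module.finrank F₀ (Submodule.span F₀ (({e1, e2} : Finset R) : Set R)) + 6 ≤
        Module.finrank F V := by
      have : Module.finrank F₀ (Submodule.span F₀ (({e1, e2} : Finset R) : Set R)) ≤ 2 :=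
        (finrank_span_finset_le_card _).trans Finset.card_le_two
      omega
    have h3 := mem_of_small hR hQ hn7 hM hMK hG (inv_mem hzM) he20 q2 hY1 (hmxY h1)
      (z.1.symm_apply_apply e2.1)
    exact (ratStab Q R).inv_mem_iff.1 h3
  obtain ⟨S, hS⟩ := moved_rat hR hQ (hpres z hzR)
  have hiso : ∀ a ∈ S, ∀ b ∈ S, polar Q a.1 b.1 = 0 := fun a ha b hb => by
    obtain ⟨u, hu⟩ := mem_movedSp.1 (hS ▸ mem_ext ha : a.1 ∈ movedSp z)
    obtain ⟨v, hv⟩ := mem_movedSp.1 (hS ▸ mem_ext hb : b.1 ∈ movedSp z)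
    have h1 : polar Q (z.1 u) v = polar Q u (z.1 v) := by
      conv_lhs => rw [← apply_sq hzz v, polar_oGroup]
    rw [← hu, ← hv, polar_sub_left, polar_sub_right, polar_sub_right, polar_oGroup, h1]
    linear_combination (polar Q u v - polar Q u (z.1 v)) * h2
  haveI : CharP F 2 := CharTwo.of_one_ne_zero_of_two_eq_zero one_ne_zero h2
  have hSeven : Even (Module.finrank F₀ S) ∧ Module.finrank F₀ S ≠ 0 := by
    obtain ⟨j, hj⟩ := (mem_commutator_iff_fixSp hQ (Or.inr (by omega)) z).1 (hMK hzM)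
    have a3 := (z.1.toLinearMap - LinearMap.id).finrank_range_add_finrank_ker
    change Module.finrank F (movedSp z) + Module.finrank F (fixSp z) = _ at a3
    rw [hS, hR.finrank_ext] at a3
    refine ⟨?_, fun h0 => hz1 ?_⟩
    · rw [Nat.even_iff]; omega
    · refine Subtype.ext (LinearEquiv.ext fun v => ?_)
      have : z.1 v - v ∈ ext S := hS ▸ mem_movedSp.2 ⟨v, rfl⟩
      rw [Submodule.finrank_eq_zero.1 h0, ext_bot, Submodule.mem_bot, sub_eq_zero] at this
      exact this
  have hyinv : ∀ v ∈ ext S, y.1 v ∈ ext S := fun v hv => by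
    rw [← hS] at hv ⊢
    obtain ⟨u, rfl⟩ := mem_movedSp.1 hv
    exact mem_movedSp.2 ⟨y.1 u, by rw [map_sub, apply_comm hzy]⟩
  obtain ⟨S1, hS1, hS10, hS1d⟩ := exists_sing_part hR hQ hn h2 hiso
  obtain ⟨⟨j, hj⟩, hj0⟩ := hSeven
  have hyR : y ∈ ratStab Q R := by
    obtain ⟨u, hu, hu0⟩ := Submodule.exists_mem_ne_zero_of_ne_bot (p := S1) fun h0 => by
      rw [h0, finrank_bot] at hS1d; omega
    by_cases hsmall : Module.finrank F₀ S ≤ 2
    · exact mem_of_invariant hR hQ hn7 hM hMK hG hyM (Y := S) (by omega) hyinv (hS1 hu) hu0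
        (hS10 u hu)
    obtain ⟨a, ha, hau⟩ : ∃ a ∈ S1, a ∉ Submodule.span F₀ {u} := by
      by_contra hc
      push Not at hc
      have h3 := Submodule.finrank_mono (show S1 ≤ Submodule.span F₀ {u} from hc)
      rw [finrank_span_singleton hu0] at h3
      omega
    obtain ⟨a', ha', ha'u⟩ : ∃ a' ∈ S1, a' ∉ Submodule.span F₀ ({u, a} : Set R) := by
      by_contra hc
      push Not at hc
      have h3 := Submodule.finrank_mono (show S1 ≤ Submodule.span F₀ ({u, a} : Set R) from hc)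
      have h4 : Module.finrank F₀ (Submodule.span F₀ ({u, a} : Set R)) ≤ 2 := by
        refine (finrank_span_le_card ({u, a} : Set R)).trans ?_
        simp only [Set.toFinset_insert, Set.toFinset_singleton]
        exact Finset.card_le_two
      omega
    have hperp : ∀ b ∈ S1, b ∈ perpS (ratForm hR) S ⊓ perpS (ratForm hR) (Submodule.span F₀ {u}) :=
      fun b hb => ⟨fun h hh => (ratForm_polar_eq_zero hR).2 (hiso h hh b (hS1 hb)), fun h hh =>
        (ratForm_polar_eq_zero hR).2 (hiso h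
          ((Submodule.span_singleton_le_iff_mem _ _).2 (hS1 hu) hh) b (hS1 hb))⟩
    have h3 := mem_of_lines hR hQ hn7 hM hMK hG (inv_mem hyM) hu0 (hS10 u hu)
      (Y := S) (v := y.1 u.1) (hyinv _ (mem_ext (hS1 hu))) (y.1.symm_apply_apply u.1)
      (u := u) hu0 (hS10 u hu) (hperp u hu).1 (hS10 a ha) (hS10 a' ha') (hperp a ha) (hperp a' ha')
      hau ha'u
    exact (ratStab Q R).inv_mem_iff.1 h3
  -- back to `g`
  obtain ⟨T, hT⟩ := moved_rat hR hQ (hpres y hyR)
  have hTiso : ∀ a ∈ T, ∀ b ∈ T, polar Q a.1 b.1 = 0 := fun a ha b hb => by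
    obtain ⟨u, hu⟩ := mem_movedSp.1 (hT ▸ mem_ext ha : a.1 ∈ movedSp y)
    obtain ⟨v, hv⟩ := mem_movedSp.1 (hT ▸ mem_ext hb : b.1 ∈ movedSp y)
    have h1 : polar Q (y.1 u) v = polar Q u (y.1 v) := by
      conv_lhs => rw [← apply_sq hyy v, polar_oGroup]
    rw [← hu, ← hv, polar_sub_left, polar_sub_right, polar_sub_right, polar_oGroup, h1]
    linear_combination (polar Q u v - polar Q u (y.1 v)) * h2
  obtain ⟨T1, hT1, hT10, hT1d⟩ := exists_sing_part hR hQ hn h2 hTiso
  obtain ⟨f, hf, hf0⟩ := Submodule.exists_mem_ne_zero_of_ne_bot (p := T1) fun h0 => by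
    rw [h0, finrank_bot] at hT1d
    -- the moved space of `y0` is not a line
    obtain ⟨p, -, hp1, -⟩ := exists_rat_dual hR hQ hn7 ∅ q1 (by simpa using he10) (by simp)
    obtain ⟨v2, hv2, hv2'⟩ : ∃ v2, polar Q v2 e1.1 = 0 ∧ polar Q v2 w.1 ≠ 0 := by
      by_contra hc
      push Not at hc
      have hmem : w.1 ∈ perpS Q (perpS Q (Submodule.span F {e1.1})) := fun v hv => by
        refine hc v ?_
        rw [polar_comm]
        exact hv _ (Submodule.mem_span_singleton_self _)
      rw [perpS_perpS hQ, Submodule.mem_span_singleton] at hmem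
      obtain ⟨t, ht⟩ := hmem
      exact hQw (by rw [← ht, quad_smul, q1, mul_zero])
    have hm : Submodule.span F {g.1 (y0.1 v1 - v1), g.1 (y0.1 v2 - v2)} ≤ ext T := by
      rw [← hT, hmy, Submodule.span_le]
      rintro _ (rfl | rfl) <;> exact ⟨_, mem_movedSp.2 ⟨_, rfl⟩, rfl⟩
    have hli : LinearIndependent F ![g.1 (y0.1 v1 - v1), g.1 (y0.1 v2 - v2)] := by
      refine (LinearIndependent.pair_iff' fun h => hv1 ?_).2 fun t ht => ?_
      · rw [(LinearEquiv.map_eq_zero_iff _).1 h, QuadraticMap.map_zero]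
      · rw [← map_smul] at ht
        have ht' := g.1.injective ht
        have hQ2 : Q (y0.1 v2 - v2) = 0 := by
          rw [hys, hv2, zero_smul, zero_sub, QuadraticMap.map_neg, quad_smul, q1, mul_zero]
        rw [← ht', quad_smul, mul_eq_zero, or_iff_left hv1, mul_self_eq_zero] at hQ2
        rw [hQ2, zero_smul, hys, hv2, zero_smul, mul_zero, add_zero, zero_sub, eq_comm,
          neg_eq_zero, smul_eq_zero] at ht'
        rcases ht' with h | h
        · exact hv2' h
        · exact he10 (Subtype.ext h)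
    have a1 := Submodule.finrank_mono hm
    rw [hR.finrank_ext] at a1
    have a2 := finrank_span_eq_card hli
    rw [Matrix.range_cons_cons_empty] at a2
    simp only [Fintype.card_fin] at a2
    omega
  obtain ⟨v, hv, hgv⟩ := (hmy ▸ hT ▸ mem_ext (hT1 hf) : f.1 ∈ (movedSp y0).map g.1.toLinearMap)
  obtain ⟨t, rfl⟩ := hy0line v hv (by
    rw [← g.2 v]; exact (congrArg Q hgv).trans (hT10 f hf))
  change g.1 (t • e1.1) = f.1 at hgv
  rw [map_smul] at hgv
  have ht : t ≠ 0 := fun h => hf0 (Subtype.ext (by rw [← hgv, h, zero_smul]; rfl))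
  exact mem_of_point hR hQ hn7 hM hMK hG hg he10 q1 (e' := f) (c := t⁻¹)
    (by rw [← hgv, smul_smul, inv_mul_cancel₀ ht, one_smul])

omit hM hMK hG

/-- Odd index subfield subgroups are maximal in characteristic two from dimension eight. -/
theorem subfield_maximal (h2 : (2 : F) = 0) {r : ℕ} (hr : r.Prime) (hr2 : r ≠ 2)
    (hcard : Nat.card F = Nat.card F₀ ^ r) :
    Cfsg.Geo.IsMaximalIn (commutator (oGroup Q)) (ratStab Q R ⊓ commutator (oGroup Q)) := by
  refine ⟨lt_of_le_of_ne inf_le_right fun e => ratStab_proper_of_seven hR hQ (by omega) hr hcard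
    (e.ge.trans inf_le_left), fun M hM hMK => ?_⟩
  by_cases hG : RatRoots Q R M
  · exact Or.inl (le_antisymm (le_inf (le_ratStab hR hQ hn hM hMK hG h2
      fun g hg x hx => preserves hR hQ hn hr hr2 hcard hg hx) hMK) hM)
  · refine Or.inr (le_antisymm hMK ?_)
    simp only [RatRoots, not_forall, not_exists, not_and] at hG
    obtain ⟨e, he0, he, a, hea, ha, hirr⟩ := hG
    exact le_of_irrational hR hQ (by omega) hM (fun _ => by omega) hr hcard he0 he hea ha
      fun x hx t => hirr x hx t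

end CfsgLib.Geo.OS.LowTwo

namespace CfsgLib.Geo.OS

open QuadraticMap CfsgLib.Forms CfsgLib.Quad Matrix

variable {F : Type*} [Field F] [Finite F] {ι : Type} [Fintype ι] [DecidableEq ι]

/-- The matrix form: characteristic two, dimension at least eight, odd index. -/
theorem subfield_maximal_matrix_two_of_eight (Q : QuadraticForm F (ι → F))
    (hQ : (polarBilin Q).Nondegenerate) (hn : 8 ≤ Fintype.card ι)
    (h2 : (2 : F) = 0) {F₀ : Subfield F} {r : ℕ} (hr : r.Prime) (hr2 : r ≠ 2)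
    (hcard : Nat.card F = Nat.card F₀ ^ r) {P : GL ι F}
    (hP : Cfsg.Geo.IsQuadFormRationalStructure ⇑Q F₀ P) :
    Cfsg.Geo.IsMaximalIn (Cfsg.Geo.omegaGL ⇑Q)
      (Cfsg.Geo.subfieldSubgroup F₀ P ⊓ Cfsg.Geo.omegaGL ⇑Q) := by
  have hfr : Module.finrank F (ι → F) = Fintype.card ι := Module.finrank_fintype_fun_eq_card F
  have hR : RatStr Q F₀ (ratSpace F₀ P) := by
    refine ⟨⟨Fintype.card ι, ((Pi.basisFun F ι).map
      (CfsgLib.Geo.glEquiv P : (ι → F) ≃ₗ[F] (ι → F))).reindex (Fintype.equivFin ι), ?_⟩, ?_⟩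
    · have hcol : ∀ i, ((Pi.basisFun F ι).map (CfsgLib.Geo.glEquiv P : (ι → F) ≃ₗ[F] (ι → F))) i =
          (P : Matrix ι ι F) *ᵥ Pi.single i 1 := fun i => by
        rw [Module.Basis.map_apply, CfsgLib.Geo.glEquiv_apply, Pi.basisFun_apply]
      rw [Module.Basis.range_reindex]
      refine le_antisymm (fun x hx => ?_) (Submodule.span_le.2 ?_)
      · rw [CfsgLib.Geo.eq_sum_cols (P := P) x]
        refine Submodule.sum_mem _ fun i _ => ?_
        exact Submodule.smul_mem _ (⟨_, hx i⟩ : F₀) (Submodule.subset_span ⟨i, hcol i⟩)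
      · rintro _ ⟨i, rfl⟩
        rw [hcol]
        exact CfsgLib.Geo.inRS_col i
    · intro x hx
      obtain ⟨u, hu, rfl⟩ := CfsgLib.Geo.InRS.eq hx
      exact hP u hu
  refine isMaximalIn_map_omega (L := ratStab Q (ratSpace F₀ P)) (fun g _ => ?_)
    (LowTwo.subfield_maximal hR hQ (by rw [hfr]; exact hn) h2 hr hr2 hcard)
  constructor
  · intro hg
    obtain ⟨d, hd, h⟩ := CfsgLib.Geo.exists_scaled_rs_of_mem hg
    exact ⟨d, hd, fun x hx => by
      have := h x hx
      rw [toGL_mulVec] at this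
      exact this⟩
  · rintro ⟨d, hd, h⟩
    exact CfsgLib.Geo.mem_subfield_of_scaled_rs hd fun x hx => by
      rw [toGL_mulVec]; exact h x hx

end CfsgLib.Geo.OS
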