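import Cfsg.Agent.Geo.OrthSubLow.Pair
import Cfsg.Agent.Geo.OrthSubfieldMatrix

/-!
Subfield subgroups of orthogonal groups in odd characteristic, from dimension seven: an element of an
overgroup maps rational singular lines to rational singular lines, by Dickson's theorem applied to the
long root groups of two lines.
-/

set_option autoImplicit false
set_option linter.unusedSectionVars false
set_option linter.style.haveILetI false

namespace CfsgLib.Geo.OS.Low

open QuadraticMap CfsgLib.Forms CfsgLib.Quad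

variable {F : Type*} [Field F] {V : Type*} [AddCommGroup V] [Module F V] [FiniteDimensional F V]
  [Finite F] {Q : QuadraticForm F V}

/-- The determinant of the pairing of two pairs. -/
def det2 (Q : QuadraticForm F V) (c d x y : V) : F :=
  polar Q x c * polar Q y d - polar Q x d * polar Q y c

variable {F₀ : Subfield F} {R : Submodule F₀ V} (hR : RatStr Q F₀ R)
  (hQ : (polarBilin Q).Nondegenerate) (hn : 7 ≤ Module.finrank F V)

include hR hQ hn

/-- A form which is rational on rational singular orthogonal pairs is rational on rational pairs. -/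
theorem det2_rat (h2 : (2 : F) ≠ 0) {c d : V}
    (hcd : ∀ a b : R, Q a.1 = 0 → Q b.1 = 0 → polar Q a.1 b.1 = 0 → det2 Q c d a.1 b.1 ∈ F₀) :
    ∀ x y : R, det2 Q c d x.1 y.1 ∈ F₀ := by
  classical
  haveI := hR.finite
  haveI : Module.Finite F₀ R := Module.Finite.of_finite
  have h20 : (2 : F₀) ≠ 0 := fun e => h2 (congrArg Subtype.val e)
  have hQ0 := hR.ratForm_nondeg hQ
  have hadd : ∀ (x : R) (u v : R), det2 Q c d x.1 u.1 ∈ F₀ → det2 Q c d x.1 v.1 ∈ F₀ →
      det2 Q c d x.1 (u + v : R).1 ∈ F₀ := fun x u v hu hv => by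
    have e : det2 Q c d x.1 (u + v : R).1 = det2 Q c d x.1 u.1 + det2 Q c d x.1 v.1 := by
      simp only [det2, show ((u + v : R) : V) = u.1 + v.1 from rfl, polar_add_left]; ring
    rw [e]; exact F₀.add_mem hu hv
  have hsmul : ∀ (x : R) (t : F₀) (u : R), det2 Q c d x.1 u.1 ∈ F₀ →
      det2 Q c d x.1 (t • u : R).1 ∈ F₀ := fun x t u hu => by
    have e : det2 Q c d x.1 (t • u : R).1 = (t : F) * det2 Q c d x.1 u.1 := by
      simp only [det2, show ((t • u : R) : V) = (t : F) • u.1 from rfl, polar_smul_left, smul_eq_mul]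
      ring
    rw [e]; exact F₀.mul_mem t.2 hu
  -- orthogonal to a singular vector
  have h1 : ∀ a : R, Q a.1 = 0 → ∀ x : R, polar Q a.1 x.1 = 0 → det2 Q c d a.1 x.1 ∈ F₀ := by
    intro a ha x hx
    rcases eq_or_ne a 0 with rfl | ha0
    · simp [det2]
    obtain ⟨w, hw, hws, hwp⟩ := exists_rat_perp hR hQ hn {a} (by simp; omega)
    obtain ⟨w', hw', hww', hw'p⟩ := exists_rat_dual hR hQ hn {a} hw hws hwp
    set X := perpS (ratForm hR) (Submodule.span F₀ {a})
    have hmemX : ∀ y : R, polar Q a.1 y.1 = 0 → y ∈ X := fun y hy h hh => by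
      obtain ⟨t, rfl⟩ := Submodule.mem_span_singleton.1 hh
      rw [polar_smul_left, (ratForm_polar_eq_zero hR).2 hy, smul_zero]
    have hgen := span_singular_eq hQ0 (hmemX w (hwp a (by simp)))
      (hmemX w' (hw'p a (by simp))) ((ratForm_eq_zero hR).2 hw)
      (fun h0 => one_ne_zero (hww'.symm.trans ((ratForm_polar_eq_zero hR).1 h0)))
    have hxX := hmemX x hx
    rw [← hgen] at hxX
    induction hxX using Submodule.span_induction with
    | mem y hy =>
      exact hcd a y ha ((ratForm_eq_zero hR).1 hy.2)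
        ((ratForm_polar_eq_zero hR).1 (hy.1 a (Submodule.mem_span_singleton_self a)))
    | zero => simp [det2]
    | add u v hu hv ihu ihv =>
      rw [hgen] at hu hv
      exact hadd a u v (ihu ((ratForm_polar_eq_zero hR).1 (hu a (Submodule.mem_span_singleton_self a))))
        (ihv ((ratForm_polar_eq_zero hR).1 (hv a (Submodule.mem_span_singleton_self a))))
    | smul t u hu ihu =>
      rw [hgen] at hu
      exact hsmul a t u
        (ihu ((ratForm_polar_eq_zero hR).1 (hu a (Submodule.mem_span_singleton_self a))))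
  -- a hyperbolic pair
  have h3 : ∀ a p : R, Q a.1 = 0 → Q p.1 = 0 → polar Q a.1 p.1 = 1 → det2 Q c d a.1 p.1 ∈ F₀ := by
    intro a p ha hp hap
    obtain ⟨u, hu, hus, hup⟩ := exists_rat_perp hR hQ hn {a, p} (by
      have : ({a, p} : Finset R).card ≤ 2 := Finset.card_le_two
      omega)
    obtain ⟨v, hv, huv, hvp⟩ := exists_rat_dual hR hQ hn {a, p} hu hus hup
    have pau := hup a (by simp)
    have ppu := hup p (by simp)
    have pav := hvp a (by simp)
    have ppv := hvp p (by simp)
    have key : ∀ s t : R, Q s.1 = 0 → Q t.1 = 0 → polar Q s.1 t.1 = 1 → polar Q a.1 s.1 = 0 →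
        polar Q p.1 s.1 = 0 → polar Q a.1 t.1 = 0 → polar Q p.1 t.1 = 0 →
        det2 Q c d a.1 p.1 - det2 Q c d s.1 t.1 ∈ F₀ := by
      intro s t hs ht hst has hps hat hpt
      have e1 : Q (a + s : R).1 = 0 := by
        rw [show ((a + s : R) : V) = a.1 + s.1 from rfl, quad_add, ha, hs, has, add_zero, add_zero]
      have e2 : Q (p - t : R).1 = 0 := by
        rw [show ((p - t : R) : V) = p.1 + (-1 : F) • t.1 from by
            change p.1 - t.1 = _; module, quad_add, quad_smul, hp, ht, polar_smul_right, hpt]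
        simp
      have e3 : polar Q (a + s : R).1 (p - t : R).1 = 0 := by
        rw [show ((a + s : R) : V) = a.1 + s.1 from rfl, show ((p - t : R) : V) = p.1 - t.1 from rfl,
          polar_sub_right, polar_add_left, polar_add_left, hap, hst, hat, polar_comm (⇑Q) s.1 p.1, hps]
        ring
      have e4 := F₀.add_mem (F₀.sub_mem (hcd _ _ e1 e2 e3) (h1 s hs p (by rw [polar_comm]; exact hps)))
        (h1 a ha t hat)
      convert e4 using 1
      simp only [det2, show ((a + s : R) : V) = a.1 + s.1 from rfl,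
        show ((p - t : R) : V) = p.1 - t.1 from rfl, polar_add_left, polar_sub_left]
      ring
    have e5 := F₀.add_mem (key u v hu hv huv pau ppu pav ppv)
      (key v u hv hu (by rw [polar_comm]; exact huv) pav ppv pau ppu)
    have e6 : det2 Q c d a.1 p.1 + det2 Q c d a.1 p.1 ∈ F₀ := by
      convert e5 using 1
      simp only [det2]; ring
    have e7 := F₀.mul_mem ((2 : F₀)⁻¹).2 e6
    convert e7 using 1
    rw [show (((2 : F₀)⁻¹ : F₀) : F) = (2 : F)⁻¹ from map_inv₀ F₀.subtype 2, ← two_mul, ← mul_assoc,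
      inv_mul_cancel₀ h2, one_mul]
  -- singular against everything
  have h4 : ∀ a : R, Q a.1 = 0 → ∀ y : R, det2 Q c d a.1 y.1 ∈ F₀ := by
    intro a ha y
    by_cases ha0 : a = 0
    · subst ha0; simp [det2]
    obtain ⟨p, hp, hap, -⟩ := exists_rat_dual hR hQ hn ∅ ha (by simpa using ha0) (by simp)
    set β : F₀ := ⟨polar Q a.1 y.1, hR.polar_mem a.2 y.2⟩
    have hy : y = β • p + (y - β • p) := by abel
    rw [hy]
    refine hadd a _ _ (hsmul a β p (h3 a p ha hp hap)) (h1 a ha _ ?_)
    rw [show ((y - β • p : R) : V) = y.1 - (polar Q a.1 y.1) • p.1 from rfl, polar_sub_right,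
      polar_smul_right, hap, smul_eq_mul, mul_one, sub_self]
  intro x y
  obtain ⟨z, hz, hzs, -⟩ := exists_rat_perp hR hQ hn ∅ (by simp; omega)
  obtain ⟨z', hz', hzz', -⟩ := exists_rat_dual hR hQ hn ∅ hz hzs (by simp)
  have hgen := span_singular_eq hQ0 (X := ⊤) (z := z) (y := z') trivial trivial
    ((ratForm_eq_zero hR).2 hz)
    (fun h0 => one_ne_zero (hzz'.symm.trans ((ratForm_polar_eq_zero hR).1 h0)))
  have hx : x ∈ (⊤ : Submodule F₀ R) := trivial
  rw [← hgen] at hx
  induction hx using Submodule.span_induction with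
  | mem a ha => exact h4 a ((ratForm_eq_zero hR).1 ha.2) y
  | zero => simp [det2]
  | add u v _ _ hu hv =>
    have e : det2 Q c d (u + v : R).1 y.1 = det2 Q c d u.1 y.1 + det2 Q c d v.1 y.1 := by
      simp only [det2, show ((u + v : R) : V) = u.1 + v.1 from rfl, polar_add_left]; ring
    rw [e]; exact F₀.add_mem hu hv
  | smul t u _ hu =>
    have e : det2 Q c d (t • u : R).1 y.1 = (t : F) * det2 Q c d u.1 y.1 := by
      simp only [det2, show ((t • u : R) : V) = (t : F) • u.1 from rfl, polar_smul_left, smul_eq_mul]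
      ring
    rw [e]; exact F₀.mul_mem t.2 hu

/-- A plane with rational pairing determinants is spanned by rational vectors. -/
theorem exists_rat_plane {c d : V} (hli : ∀ s t : F, s • c + t • d = 0 → s = 0 ∧ t = 0)
    (hdet : ∀ x y : R, det2 Q c d x.1 y.1 ∈ F₀) :
    ∃ S : Submodule F₀ R, Module.finrank F₀ S ≤ 2 ∧ c ∈ ext S ∧ d ∈ ext S ∧
      ∀ z ∈ S, ∃ s t : F, z.1 = s • c + t • d := by
  classical
  haveI := hR.finite
  haveI : Module.Finite F₀ R := Module.Finite.of_finite
  have hQ0 := hR.ratForm_nondeg hQ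
  obtain ⟨x0, hx0⟩ : ∃ x : R, polar Q x.1 c ≠ 0 := by
    by_contra hcon
    push Not at hcon
    have hc := hR.eq_zero_of_perp hQ (fun r hr => hcon ⟨r, hr⟩)
    exact one_ne_zero (hli 1 0 (by rw [hc, smul_zero, zero_smul, add_zero])).1
  obtain ⟨y0, hD⟩ : ∃ y : R, det2 Q c d x0.1 y.1 ≠ 0 := by
    by_contra hcon
    push Not at hcon
    have h0 := hR.eq_zero_of_perp hQ (x := polar Q x0.1 c • d + (-polar Q x0.1 d) • c) fun r hr => by
      rw [polar_add_right, polar_smul_right, polar_smul_right, smul_eq_mul, smul_eq_mul]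
      have := hcon ⟨r, hr⟩
      rw [det2] at this
      linear_combination this
    exact hx0 (hli _ _ (by rw [add_comm]; exact h0)).2
  set D := det2 Q c d x0.1 y0.1 with hDdef
  have hrat : ∀ v : V, (∀ x : R, polar Q x.1 v ∈ F₀) → v ∈ R := by
    intro v hv
    let φ : Module.Dual F₀ (⊤ : Submodule F₀ R) :=
      { toFun := fun x => ⟨polar Q x.1.1 v, hv x.1⟩
        map_add' := fun x y => Subtype.ext (polar_add_left Q x.1.1 y.1.1 v)
        map_smul' := fun t x => Subtype.ext (polar_smul_left Q (t : F) x.1.1 v) }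
    obtain ⟨w, hw⟩ := exists_polar_eq_on hQ0 ⊤ φ
    have h0 := hR.eq_zero_of_perp hQ (x := w.1 - v) fun r hr => by
      rw [polar_sub_right, sub_eq_zero]
      exact congrArg Subtype.val (hw ⟨⟨r, hr⟩, trivial⟩)
    rw [sub_eq_zero] at h0
    rw [← h0]; exact w.2
  have hc' : D⁻¹ • (polar Q y0.1 d • c - polar Q y0.1 c • d) ∈ R := hrat _ fun x => by
    rw [polar_smul_right, polar_sub_right, polar_smul_right, polar_smul_right, smul_eq_mul,
      smul_eq_mul, smul_eq_mul]
    refine F₀.mul_mem (F₀.inv_mem (hdet x0 y0)) ?_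
    have := hdet x y0
    rw [det2] at this
    convert this using 1; ring
  have hd' : D⁻¹ • (polar Q x0.1 c • d - polar Q x0.1 d • c) ∈ R := hrat _ fun x => by
    rw [polar_smul_right, polar_sub_right, polar_smul_right, polar_smul_right, smul_eq_mul,
      smul_eq_mul, smul_eq_mul]
    refine F₀.mul_mem (F₀.inv_mem (hdet x0 y0)) ?_
    have := hdet x0 x
    rw [det2] at this
    convert this using 1
  set c' : R := ⟨_, hc'⟩
  set d' : R := ⟨_, hd'⟩
  refine ⟨Submodule.span F₀ (({c', d'} : Finset R) : Set R),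
    (finrank_span_finset_le_card _).trans Finset.card_le_two, ?_, ?_, fun z hz => ?_⟩
  · have e : c = polar Q x0.1 c • c'.1 + polar Q y0.1 c • d'.1 := by
      change c = polar Q x0.1 c • D⁻¹ • (polar Q y0.1 d • c - polar Q y0.1 c • d) +
        polar Q y0.1 c • D⁻¹ • (polar Q x0.1 c • d - polar Q x0.1 d • c)
      calc c = (D⁻¹ * D) • c := by rw [inv_mul_cancel₀ hD, one_smul]
        _ = _ := by rw [hDdef, det2]; module
    rw [e]
    exact Submodule.add_mem _ (Submodule.smul_mem _ _ (mem_ext (Submodule.subset_span (by simp))))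
      (Submodule.smul_mem _ _ (mem_ext (Submodule.subset_span (by simp))))
  · have e : d = polar Q x0.1 d • c'.1 + polar Q y0.1 d • d'.1 := by
      change d = polar Q x0.1 d • D⁻¹ • (polar Q y0.1 d • c - polar Q y0.1 c • d) +
        polar Q y0.1 d • D⁻¹ • (polar Q x0.1 c • d - polar Q x0.1 d • c)
      calc d = (D⁻¹ * D) • d := by rw [inv_mul_cancel₀ hD, one_smul]
        _ = _ := by rw [hDdef, det2]; module
    rw [e]
    exact Submodule.add_mem _ (Submodule.smul_mem _ _ (mem_ext (Submodule.subset_span (by simp))))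
      (Submodule.smul_mem _ _ (mem_ext (Submodule.subset_span (by simp))))
  · rw [Finset.coe_pair, Submodule.mem_span_pair] at hz
    obtain ⟨s, t, rfl⟩ := hz
    refine ⟨(s : F) * (D⁻¹ * polar Q y0.1 d) - (t : F) * (D⁻¹ * polar Q x0.1 d),
      (t : F) * (D⁻¹ * polar Q x0.1 c) - (s : F) * (D⁻¹ * polar Q y0.1 c), ?_⟩
    change (s : F) • D⁻¹ • (polar Q y0.1 d • c - polar Q y0.1 c • d) +
      (t : F) • D⁻¹ • (polar Q x0.1 c • d - polar Q x0.1 d • c) = _
    module

section overgroup

variable {M : Subgroup (oGroup Q)} (hM : ratStab Q R ⊓ commutator (oGroup Q) ≤ M)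
  (hMK : M ≤ commutator (oGroup Q)) (hG : RatRoots Q R M) (h2 : (2 : F) ≠ 0)

include hM hMK hG h2

/-- The pairing determinant of a rational singular line and the image of one is rational. -/
theorem det2_image {r : ℕ} (hr : r.Prime) (hcard : Nat.card F = Nat.card F₀ ^ r)
    (hexc : ¬ (Nat.card F₀ = 3 ∧ r = 2)) {g : oGroup Q} (hg : g ∈ M) {a0 b0 : R} (ha0 : Q a0.1 = 0)
    (hb0 : Q b0.1 = 0) (hab0 : polar Q a0.1 b0.1 = 0) {a b : R} (ha : Q a.1 = 0) (hb : Q b.1 = 0)
    (hab : polar Q a.1 b.1 = 0) : det2 Q (g.1 a0.1) (g.1 b0.1) a.1 b.1 ∈ F₀ := by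
  classical
  by_contra hD
  set c := g.1 a0.1 with hc
  set d := g.1 b0.1 with hd
  set D := det2 Q c d a.1 b.1 with hDdef
  have hD0 : D ≠ 0 := fun h => hD (h ▸ F₀.zero_mem)
  have qc : Q c = 0 := by rw [hc, g.2, ha0]
  have qd : Q d = 0 := by rw [hd, g.2, hb0]
  have pcd : polar Q c d = 0 := by rw [hc, hd, polar_oGroup, hab0]
  set c' := (D⁻¹ * polar Q b.1 d) • c + (-(D⁻¹ * polar Q b.1 c)) • d with hc'
  set d' := (-(D⁻¹ * polar Q a.1 d)) • c + (D⁻¹ * polar Q a.1 c) • d with hd'
  have hdual : Dual Q a.1 b.1 c' d' := by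
    have e : ∀ (s t : F), Q (s • c + t • d) = 0 := fun s t => by
      rw [quad_add, quad_smul, quad_smul, polar_smul_left, polar_smul_right, qc, qd, pcd]; simp
    refine ⟨ha, hb, e _ _, e _ _, hab, ?_, ?_, ?_, ?_, ?_⟩ <;>
      simp only [hc', hd', polar_add_left, polar_add_right, polar_smul_left, polar_smul_right,
        polar_self, qc, qd, pcd, polar_comm (⇑Q) d c, smul_eq_mul]
    · ring
    · field_simp; rw [hDdef, det2]; ring
    · field_simp; rw [hDdef, det2]; ring
    · ring
    · ring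
  have hlow : ∀ t ∈ F₀, siegel Q c' ((t * D) • d') ∈ M := fun t ht => by
    have hperp : polar Q a0.1 (t • b0.1) = 0 := by rw [polar_smul_right, hab0, smul_zero]
    have h1 := siegel_conj_mem hg ha0 hperp (siegel_rat_mem hR hQ hn hM a0.2 ha0
      (R.smul_mem (⟨t, ht⟩ : F₀) b0.2) hperp)
    rw [map_smul, ← hc, ← hd] at h1
    convert h1 using 1
    refine Subtype.ext (LinearEquiv.ext fun x => ?_)
    rw [siegel_apply hdual.qc (by rw [polar_smul_right, hdual.cd, smul_zero]),
      siegel_apply qc (by rw [polar_smul_right, pcd, smul_zero]), quad_smul, quad_smul, hdual.qd, qd]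
    simp only [hc', hd', polar_add_right, polar_smul_right, smul_eq_mul, mul_zero, zero_mul, add_zero]
    have hk : D * ((D⁻¹ * polar Q b.1 d) * (D⁻¹ * polar Q a.1 c) -
        (D⁻¹ * polar Q b.1 c) * (D⁻¹ * polar Q a.1 d)) = 1 := by
      field_simp; rw [hDdef, det2]; ring
    linear_combination (norm := module) hk • ((t * polar Q x c) • d - (t * polar Q x d) • c)
  have hup : ∀ t ∈ F₀, siegel Q a.1 (t • b.1) ∈ M := fun t ht =>
    siegel_rat_mem hR hQ hn hM a.2 ha (R.smul_mem (⟨t, ht⟩ : F₀) b.2)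
      (by rw [polar_smul_right, hab, smul_zero])
  have hmem := hdual.siegel_mem h2 hr hcard hexc M hD hup hlow
  have ha0' : a ≠ 0 := fun h => hD0 (by rw [hDdef, h]; simp [det2])
  have hba : b ∉ Submodule.span F₀ ({a} : Set R) := fun h => hD0 (by
    obtain ⟨k, rfl⟩ := Submodule.mem_span_singleton.1 h
    rw [hDdef]
    simp only [det2, show ((k • a : R) : V) = (k : F) • a.1 from rfl, polar_smul_left, smul_eq_mul]
    ring)
  obtain ⟨x, hx, t, ht⟩ := hG a ha0' ha _ (by rw [polar_smul_right, hab, smul_zero]) hmem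
  obtain ⟨p, hp, hbp, hpa⟩ := exists_rat_dual hR hQ hn {a} hb (by simpa using hba) (by simpa using hab)
  have h1 := congrArg (fun v => polar Q v p.1) ht
  simp only [polar_smul_left, polar_add_left, hbp, hpa a (by simp), smul_eq_mul, mul_one, mul_zero,
    add_zero] at h1
  exact hD (h1 ▸ hR.polar_mem hx p.2)

/-- The image of a rational singular line is rational. -/
theorem exists_image_plane {r : ℕ} (hr : r.Prime) (hcard : Nat.card F = Nat.card F₀ ^ r)
    (hexc : ¬ (Nat.card F₀ = 3 ∧ r = 2)) {g : oGroup Q} (hg : g ∈ M) {a0 b0 : R} (ha0 : Q a0.1 = 0)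
    (hb0 : Q b0.1 = 0) (hab0 : polar Q a0.1 b0.1 = 0) (ha00 : a0 ≠ 0)
    (hba : b0 ∉ Submodule.span F₀ ({a0} : Set R)) :
    ∃ S : Submodule F₀ R, Module.finrank F₀ S ≤ 2 ∧ g.1 a0.1 ∈ ext S ∧
      ∀ z ∈ S, ∃ s t : F, z.1 = g.1 (s • a0.1 + t • b0.1) := by
  obtain ⟨S, hS, hc, -, hz⟩ := exists_rat_plane hR hQ hn (c := g.1 a0.1) (d := g.1 b0.1)
    (fun s t h => by
      rw [← map_smul, ← map_smul, ← map_add, LinearEquiv.map_eq_zero_iff] at h
      have ht : t = 0 := by
        by_contra hne
        refine hba (hR.mem_of_mem_ext ((Submodule.smul_mem_iff _ hne).1 ?_))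
        rw [eq_neg_of_add_eq_zero_right h]
        exact Submodule.neg_mem _ (Submodule.smul_mem _ _
          (mem_ext (Submodule.mem_span_singleton_self a0)))
      rw [ht, zero_smul, add_zero] at h
      exact ⟨(smul_eq_zero.1 h).resolve_right fun h0 => ha00 (Subtype.ext h0), ht⟩)
    (det2_rat hR hQ hn h2 fun a b ha hb hab =>
      det2_image hR hQ hn hM hMK hG h2 hr hcard hexc hg ha0 hb0 hab0 ha hb hab)
  exact ⟨S, hS, hc, fun z hzS => by
    obtain ⟨s, t, e⟩ := hz z hzS
    exact ⟨s, t, by rw [map_add, map_smul, map_smul, e]⟩⟩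

/-- An overgroup with rational root elements only preserves the rational structure. -/
theorem le_ratStab {r : ℕ} (hr : r.Prime) (hcard : Nat.card F = Nat.card F₀ ^ r)
    (hexc : ¬ (Nat.card F₀ = 3 ∧ r = 2)) : M ≤ ratStab Q R := by
  classical
  haveI := hR.finite
  haveI : Module.Finite F₀ R := Module.Finite.of_finite
  intro g hg
  obtain ⟨a0, ha, has, -⟩ := exists_rat_perp hR hQ hn ∅ (by simp; omega)
  have ha0 : a0 ≠ 0 := fun h => has (h ▸ zero_mem _)
  obtain ⟨b0, hb, hbs, hbp⟩ := exists_rat_perp hR hQ hn {a0} (by simp; omega)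
  rw [Finset.coe_singleton] at hbs
  obtain ⟨b1, hb1K, hb1, hb1s⟩ := exists_rat_singular hR hQ hn
    (perpS (ratForm hR) (Submodule.span F₀ (({a0} : Finset R) : Set R)))
    (Submodule.span F₀ (({a0, b0} : Finset R) : Set R)) (by
      have := finrank_rat_perp hR hQ hn {a0}
      have h1 : Module.finrank F₀ (Submodule.span F₀ (({a0, b0} : Finset R) : Set R)) ≤ 2 :=
        (finrank_span_finset_le_card _).trans Finset.card_le_two
      simp only [Finset.card_singleton] at this
      omega)
  rw [Finset.coe_pair] at hb1s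
  have hab1 : polar Q a0.1 b1.1 = 0 :=
    (ratForm_polar_eq_zero hR).1 (hb1K a0 (Submodule.subset_span (by simp)))
  obtain ⟨S, -, hcS, hzS⟩ := exists_image_plane hR hQ hn hM hMK hG h2 hr hcard hexc hg ha hb
    (hbp a0 (by simp)) ha0 hbs
  obtain ⟨S', -, hcS', hzS'⟩ := exists_image_plane hR hQ hn hM hMK hG h2 hr hcard hexc hg ha hb1 hab1
    ha0 (fun h => hb1s (Submodule.span_mono (by simp) h))
  have hmem : g.1 a0.1 ∈ ext (S ⊓ S') := by rw [← hR.ext_inf]; exact ⟨hcS, hcS'⟩
  obtain ⟨z, hz, hz0⟩ : ∃ z ∈ S ⊓ S', z ≠ 0 := by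
    refine Submodule.exists_mem_ne_zero_of_ne_bot fun h0 => ?_
    rw [h0, ext_bot, Submodule.mem_bot, LinearEquiv.map_eq_zero_iff] at hmem
    exact ha0 (Subtype.ext hmem)
  obtain ⟨s, t, e1⟩ := hzS z hz.1
  obtain ⟨s', t', e2⟩ := hzS' z hz.2
  have e3 : s • a0.1 + t • b0.1 = s' • a0.1 + t' • b1.1 := g.1.injective (e1.symm.trans e2)
  have ht' : t' = 0 := by
    by_contra hne
    refine hb1s (hR.mem_of_mem_ext ((Submodule.smul_mem_iff _ hne).1 ?_))
    rw [show t' • b1.1 = (s - s') • a0.1 + t • b0.1 by rw [sub_smul, eq_sub_of_add_eq' e3.symm]; abel]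
    exact Submodule.add_mem _ (Submodule.smul_mem _ _ (mem_ext (Submodule.subset_span (by simp))))
      (Submodule.smul_mem _ _ (mem_ext (Submodule.subset_span (by simp))))
  rw [ht', zero_smul, add_zero, map_smul] at e2
  have hs' : s' ≠ 0 := fun h0 => hz0 (Subtype.ext (by rw [e2, h0, zero_smul]; rfl))
  exact mem_of_point hR hQ hn hM hMK hG hg ha0 ha (c := s'⁻¹) (e' := z)
    (by rw [e2, smul_smul, inv_mul_cancel₀ hs', one_smul])

omit h2 in
/-- Index two: the preimage of a rational singular point spans a small rational subspace. -/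
theorem le_ratStab_two (h2 : (2 : F) ≠ 0) (hcard : Nat.card F = Nat.card F₀ ^ 2) :
    M ≤ ratStab Q R := by
  classical
  haveI := hR.finite
  haveI : Module.Finite F₀ R := Module.Finite.of_finite
  haveI : Module.Finite F₀ F := Module.Finite.of_finite
  intro h hh
  have hQ0 := hR.ratForm_nondeg hQ
  obtain ⟨f, hf, hfs, -⟩ := exists_rat_perp hR hQ hn ∅ (by simp; omega)
  have hf0 : f ≠ 0 := fun h0 => hfs (h0 ▸ zero_mem _)
  -- an element outside the subfield whose square is inside
  obtain ⟨ω, hω, hω2⟩ : ∃ ω : F, ω ∉ F₀ ∧ ω * ω ∈ F₀ := by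
    haveI := Fintype.ofFinite F
    haveI := Fintype.ofFinite F₀
    have hsurj : ∀ k : F₀, ∃ x : F, x * x = k.1 := fun k => by
      suffices IsSquare (k.1 : F) by obtain ⟨x, hx⟩ := this; exact ⟨x, hx.symm⟩
      by_cases hk : k = 0
      · rw [hk]; exact IsSquare.zero
      have hcF : ringChar F ≠ 2 := fun hc => h2 (by
        haveI := ringChar.of_eq hc
        exact CharTwo.two_eq_zero)
      rw [FiniteField.isSquare_iff hcF (fun h0 => hk (Subtype.ext h0))]
      have hqF : Fintype.card F = Fintype.card F₀ ^ 2 := by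
        rw [← Nat.card_eq_fintype_card, ← Nat.card_eq_fintype_card, hcard]
      have hchar0 : ringChar F₀ ≠ 2 := fun hc => h2 (by
        haveI := ringChar.of_eq hc
        exact congrArg Subtype.val (CharTwo.two_eq_zero (R := F₀)))
      obtain ⟨m, hm⟩ := Nat.odd_iff.2 (FiniteField.odd_card_of_char_ne_two hchar0)
      have hdiv : Fintype.card F / 2 = (Fintype.card F₀ - 1) * (m + 1) := by
        rw [hqF, hm, show (2 * m + 1) ^ 2 = 2 * (2 * m * (m + 1)) + 1 by ring,
          show 2 * m + 1 - 1 = 2 * m by omega]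
        omega
      rw [hdiv, pow_mul, show (k.1 : F) ^ (Fintype.card F₀ - 1) = 1 from
        congrArg Subtype.val (FiniteField.pow_card_sub_one_eq_one k hk), one_pow]
    have hchar : ringChar F₀ ≠ 2 := fun hc => h2 (by
      haveI := ringChar.of_eq hc
      exact congrArg Subtype.val (CharTwo.two_eq_zero (R := F₀)))
    obtain ⟨k, hk⟩ := FiniteField.exists_nonsquare hchar
    obtain ⟨ω, hω⟩ := hsurj k
    exact ⟨ω, fun hm => hk ⟨⟨ω, hm⟩, Subtype.ext hω.symm⟩, hω ▸ k.2⟩
  have hrank : Module.finrank F₀ F = 2 := by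
    haveI := Fintype.ofFinite F
    haveI := Fintype.ofFinite F₀
    have h1 := Module.card_eq_pow_finrank (K := F₀) (V := F)
    rw [← Nat.card_eq_fintype_card, hcard, Fintype.card_eq_nat_card] at h1
    exact (Nat.pow_right_injective (Finite.one_lt_card (α := F₀)) h1).symm
  set v := h.1.symm f.1 with hv
  have hhv : h.1 v = f.1 := h.1.apply_symm_apply _
  have hQv : Q v = 0 := by rw [← h.2, hhv, hf]
  -- rational coordinates of the preimage
  obtain ⟨c1, c2, hc12⟩ : ∃ c1 c2 : R, v = c1.1 + ω • c2.1 := by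
    have hsum : ∀ u ∈ ext (⊤ : Submodule F₀ R), ∃ c1 c2 : R, u = c1.1 + ω • c2.1 := fun u hu => by
      refine ext_induction (p := fun z => ∃ c1 c2 : R, z = c1.1 + ω • c2.1)
        ⟨0, 0, by simp⟩ ?_ ?_ hu
      · rintro _ _ ⟨a1, a2, rfl⟩ ⟨b1, b2, rfl⟩
        exact ⟨a1 + b1, a2 + b2, by
          rw [show ((a1 + b1 : R) : V) = a1.1 + b1.1 from rfl,
            show ((a2 + b2 : R) : V) = a2.1 + b2.1 from rfl]; module⟩
      · intro c x _
        have hli : LinearIndependent F₀ ![(1 : F), ω] := by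
          rw [LinearIndependent.pair_iff]
          intro s t hst
          change (s : F) * 1 + (t : F) * ω = 0 at hst
          by_cases ht : t = 0
          · exact ⟨Subtype.ext (by simpa [ht] using hst), ht⟩
          · exfalso
            refine hω ?_
            have ht' : (t : F) ≠ 0 := fun e => ht (Subtype.ext e)
            rw [show ω = -(s : F) * (t : F)⁻¹ by field_simp; linear_combination hst]
            exact F₀.mul_mem (F₀.neg_mem s.2) (F₀.inv_mem t.2)
        have hspan := hli.span_eq_top_of_card_eq_finrank (by rw [hrank]; simp)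
        have hc : c ∈ Submodule.span F₀ (Set.range ![(1 : F), ω]) := hspan ▸ trivial
        rw [Matrix.range_cons, Matrix.range_cons, Matrix.range_empty, Set.union_empty,
          Set.singleton_union, Submodule.mem_span_pair] at hc
        obtain ⟨s, t, rfl⟩ := hc
        refine ⟨s • x, t • x, ?_⟩
        change ((s : F) * 1 + (t : F) * ω) • x.1 = (s : F) • x.1 + ω • ((t : F) • x.1)
        module
    exact hsum v (by rw [hR.ext_top]; trivial)
  have h1 : Q c1.1 + ω * ω * Q c2.1 = 0 ∧ polar Q c1.1 c2.1 = 0 := by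
    rw [hc12, quad_add, quad_smul, polar_smul_right, smul_eq_mul] at hQv
    by_contra hne
    by_cases hp : polar Q c1.1 c2.1 = 0
    · exact hne ⟨by linear_combination hQv - ω * hp, hp⟩
    refine hω ?_
    rw [show ω = -(Q c1.1 + ω * ω * Q c2.1) * (polar Q c1.1 c2.1)⁻¹ by
      field_simp; linear_combination hQv]
    exact F₀.mul_mem (F₀.neg_mem (F₀.add_mem (hR.rat _ c1.2) (F₀.mul_mem hω2 (hR.rat _ c2.2))))
      (F₀.inv_mem (hR.polar_mem c1.2 c2.2))
  have hω0 : ω ≠ 0 := fun h0 => hω (h0 ▸ F₀.zero_mem)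
  have hv0 : v ≠ 0 := fun h0 => hf0 (Subtype.ext (by rw [← hhv, h0, map_zero]; rfl))
  set Y := Submodule.span F₀ (({c1, c2} : Finset R) : Set R) with hY
  have hY2 : Module.finrank F₀ Y ≤ 2 := (finrank_span_finset_le_card _).trans Finset.card_le_two
  have hvY : v ∈ ext Y := by
    rw [hc12]
    exact Submodule.add_mem _ (mem_ext (Submodule.subset_span (by simp)))
      (Submodule.smul_mem _ _ (mem_ext (Submodule.subset_span (by simp))))
  by_cases hq : Q c2.1 = 0
  · have hq1 : Q c1.1 = 0 := by linear_combination h1.1 - ω * ω * hq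
    -- dependent coordinates: the preimage is a rational point
    by_cases hc2 : c2 = 0
    · have hc1 : c1 ≠ 0 := fun h0 => hv0 (by rw [hc12, h0, hc2]; simp)
      refine mem_of_point hR hQ hn hM hMK hG hh hc1 hq1 (c := 1) (e' := f) ?_
      rw [one_smul, ← hhv, hc12, hc2]; simp
    by_cases hdep : c1 ∈ Submodule.span F₀ ({c2} : Set R)
    · obtain ⟨k, rfl⟩ := Submodule.mem_span_singleton.1 hdep
      have hk : (k : F) + ω ≠ 0 := fun h0 => hω (by
        rw [eq_neg_of_add_eq_zero_right h0]; exact F₀.neg_mem k.2)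
      refine mem_of_point hR hQ hn hM hMK hG hh hc2 hq (c := ((k : F) + ω)⁻¹) (e' := f) ?_
      rw [← hhv, hc12, show ((k • c2 : R) : V) = (k : F) • c2.1 from rfl, ← add_smul, map_smul,
        smul_smul, inv_mul_cancel₀ hk, one_smul]
    -- a rational singular line
    have hYperp : ∀ x ∈ ({c1, c2} : Finset R), ∀ y ∈ ({c1, c2} : Finset R),
        polar Q x.1 y.1 = 0 := by
      intro x hx y hy
      simp only [Finset.mem_insert, Finset.mem_singleton] at hx hy
      rcases hx with h | h <;> rcases hy with h' | h' <;> rw [h, h'] <;>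
        simp [polar_self, hq1, hq, h1.2, polar_comm (⇑Q) c2.1 c1.1]
    have hinY : ∀ x ∈ ({c1, c2} : Finset R), x ∈ perpS (ratForm hR) Y := fun x hx y hy => by
      induction hy using Submodule.span_induction with
      | mem z hz => exact (ratForm_polar_eq_zero hR).2 (hYperp z hz x hx)
      | zero => exact polar_zero_left _ _
      | add u v _ _ hu hv => rw [polar_add_left, hu, hv, add_zero]
      | smul t u _ hu => rw [polar_smul_left, hu, smul_zero]
    have hperp1 : perpS (ratForm hR) Y ≤ perpS (ratForm hR) (Submodule.span F₀ {c1}) :=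
      fun x hx y hy => hx y (Submodule.span_mono (by simp) hy)
    have hKdim := finrank_perpS hQ0 Y
    rw [hR.finrank_eq] at hKdim
    obtain ⟨a', ha'K, ha', ha's⟩ := exists_rat_singular hR hQ hn (perpS (ratForm hR) Y) Y (by omega)
    rw [hY, Finset.coe_pair] at ha's
    exact mem_of_lines hR hQ hn hM hMK hG hh hf0 hf hvY hhv (u := c1) (a := c2) (a' := a')
      (fun h0 => hdep (h0 ▸ zero_mem _)) hq1 (hinY c1 (by simp)) hq ha'
      ⟨hinY c2 (by simp), hperp1 (hinY c2 (by simp))⟩ ⟨ha'K, hperp1 ha'K⟩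
      (fun hm => by
        obtain ⟨k, hk⟩ := Submodule.mem_span_singleton.1 hm
        rcases eq_or_ne k 0 with rfl | hk0
        · exact hc2 (by rw [← hk, zero_smul])
        · exact hdep (Submodule.mem_span_singleton.2 ⟨k⁻¹, by
            rw [← hk, smul_smul, inv_mul_cancel₀ hk0, one_smul]⟩))
      ha's
  -- a non-degenerate rational plane
  have hYnd : ND (ratForm hR) Y := (Submodule.eq_bot_iff _).2 fun w hw => by
    obtain ⟨hwY, hwp⟩ := hw
    rw [hY, Finset.coe_pair] at hwY
    obtain ⟨s, t, rfl⟩ := Submodule.mem_span_pair.1 hwY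
    have e1 := (ratForm_polar_eq_zero hR).1 (hwp c1 (Submodule.subset_span (by simp)))
    have e2 := (ratForm_polar_eq_zero hR).1 (hwp c2 (Submodule.subset_span (by simp)))
    rw [show ((s • c1 + t • c2 : R) : V) = (s : F) • c1.1 + (t : F) • c2.1 from rfl, polar_add_right,
      polar_smul_right, polar_smul_right, polar_self, smul_eq_mul, smul_eq_mul] at e1 e2
    simp only [h1.2, polar_comm (⇑Q) c2.1 c1.1, mul_zero, add_zero, zero_add, nsmul_eq_mul,
      Nat.cast_ofNat, smul_eq_mul] at e1 e2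
    have ht : t = 0 := Subtype.ext ((mul_eq_zero.1 e2).resolve_right (mul_ne_zero h2 hq))
    have hq1 : Q c1.1 ≠ 0 := fun h0 => mul_ne_zero (mul_ne_zero hω0 hω0) hq (by
      linear_combination h1.1 - h0)
    have hs : s = 0 := Subtype.ext ((mul_eq_zero.1 e1).resolve_right (mul_ne_zero h2 hq1))
    rw [hs, ht, zero_smul, zero_smul, add_zero]
  exact mem_of_small_nd hR hQ hn hM hMK hG hh hf0 hf (by omega) hYnd hvY hhv

end overgroup

/-- The rational stabiliser is maximal in `Ω`: odd characteristic, dimension at least seven. -/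
theorem subfield_maximal (h2 : (2 : F) ≠ 0) {r : ℕ} (hr : r.Prime)
    (hcard : Nat.card F = Nat.card F₀ ^ r) :
    Cfsg.Geo.IsMaximalIn (commutator (oGroup Q)) (ratStab Q R ⊓ commutator (oGroup Q)) := by
  refine ⟨lt_of_le_of_ne inf_le_right fun e => ratStab_proper_of_seven hR hQ hn hr hcard
    (e.ge.trans inf_le_left), fun M hM hMK => ?_⟩
  by_cases hG : RatRoots Q R M
  · refine Or.inl (le_antisymm (le_inf ?_ hMK) hM)
    by_cases hr2 : r = 2
    · subst hr2; exact le_ratStab_two hR hQ hn hM hMK hG h2 hcard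
    · exact le_ratStab hR hQ hn hM hMK hG h2 hr hcard fun h => hr2 h.2
  · refine Or.inr (le_antisymm hMK ?_)
    simp only [RatRoots, not_forall, not_exists, not_and] at hG
    obtain ⟨e, he0, he, a, hea, ha, hirr⟩ := hG
    exact le_of_irrational hR hQ hn hM (fun h => absurd h h2) hr hcard he0 he hea ha
      fun x hx t => hirr x hx t

end CfsgLib.Geo.OS.Low
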