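import Cfsg.Agent.Geo.OrthSubfieldPoints
import Cfsg.Agent.QuadPairs.Dickson
import Cfsg.Agent.Classical.DicksonGen

/-!
The group generated by two opposite long root groups of an orthogonal group as an image of `SL₂`.
-/

set_option autoImplicit false
set_option linter.unusedSectionVars false

namespace CfsgLib.Geo.OS.Low

open QuadraticMap CfsgLib.Forms CfsgLib.Quad

variable {F : Type*} [Field F] {V : Type*} [AddCommGroup V] [Module F V] {Q : QuadraticForm F V}

/-- Two singular lines in duality. -/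
structure Dual (Q : QuadraticForm F V) (a b c d : V) : Prop where
  qa : Q a = 0
  qb : Q b = 0
  qc : Q c = 0
  qd : Q d = 0
  ab : polar Q a b = 0
  cd : polar Q c d = 0
  ac : polar Q a c = 1
  bd : polar Q b d = 1
  ad : polar Q a d = 0
  bc : polar Q b c = 0

theorem Dual.swap {a b c d : V} (h : Dual Q a b c d) : Dual Q c d a b :=
  ⟨h.qc, h.qd, h.qa, h.qb, h.cd, h.ab, by rw [polar_comm, h.ac], by rw [polar_comm, h.bd],
    by rw [polar_comm, h.bc], by rw [polar_comm, h.ad]⟩

/-- The action of a `2 × 2` matrix on two dual singular lines. -/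
def act (Q : QuadraticForm F V) (a b c d : V) (m : Matrix (Fin 2) (Fin 2) F) : V →ₗ[F] V where
  toFun x := x + ((m 0 0 - 1) * polar Q x d + m 0 1 * polar Q x a) • b +
    (m 1 0 * polar Q x d + (m 1 1 - 1) * polar Q x a) • c +
    ((m 0 0 - 1) * polar Q x c - m 0 1 * polar Q x b) • a +
    (-(m 1 0) * polar Q x c + (m 1 1 - 1) * polar Q x b) • d
  map_add' x y := by simp only [polar_add_left]; module
  map_smul' t x := by simp only [polar_smul_left, smul_eq_mul, RingHom.id_apply]; module

theorem act_one (a b c d x : V) : act Q a b c d 1 x = x := by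
  simp [act]

variable {a b c d : V}

theorem Dual.coords (h : Dual Q a b c d) (m : Matrix (Fin 2) (Fin 2) F) (x : V) :
    polar Q (act Q a b c d m x) d = m 0 0 * polar Q x d + m 0 1 * polar Q x a ∧
      polar Q (act Q a b c d m x) a = m 1 0 * polar Q x d + m 1 1 * polar Q x a ∧
      polar Q (act Q a b c d m x) c = m 0 0 * polar Q x c - m 0 1 * polar Q x b ∧
      polar Q (act Q a b c d m x) b = -(m 1 0) * polar Q x c + m 1 1 * polar Q x b := by
  have hs := h.swap
  refine ⟨?_, ?_, ?_, ?_⟩ <;>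
    simp [act, polar_add_left, polar_smul_left, polar_self, h.qa, h.qb, h.qc, h.qd, h.ab, h.cd, h.ac,
      h.bd, h.ad, h.bc, hs.ac, hs.bd, hs.ad, hs.bc, polar_comm (⇑Q) b a, polar_comm (⇑Q) d c] <;>
    ring

theorem Dual.act_mul (h : Dual Q a b c d) (m m' : Matrix (Fin 2) (Fin 2) F) (x : V) :
    act Q a b c d (m * m') x = act Q a b c d m (act Q a b c d m' x) := by
  obtain ⟨e1, e2, e3, e4⟩ := h.coords m' x
  conv_rhs => rw [act, LinearMap.coe_mk, AddHom.coe_mk]
  simp only [e1, e2, e3, e4]
  simp only [act, LinearMap.coe_mk, AddHom.coe_mk, Matrix.mul_apply, Fin.sum_univ_two]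
  module

theorem Dual.act_preserves (h : Dual Q a b c d) {m : Matrix (Fin 2) (Fin 2) F} (hm : m.det = 1) (x : V) :
    Q (act Q a b c d m x) = Q x := by
  rw [Matrix.det_fin_two] at hm
  have hs := h.swap
  simp only [act, LinearMap.coe_mk, AddHom.coe_mk, quad_add, quad_smul, polar_add_left,
    polar_smul_left, polar_smul_right, h.qa, h.qb, h.qc, h.qd, h.ab, h.cd, h.ac, h.bd, h.ad, h.bc,
    hs.ac, hs.bd, hs.ad, hs.bc, polar_comm (⇑Q) b a, polar_comm (⇑Q) d c, smul_eq_mul]
  linear_combination (polar Q x a * polar Q x c + polar Q x b * polar Q x d) * hm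

/-- `SL₂` on two dual singular lines. -/
noncomputable def Dual.hom (h : Dual Q a b c d) :
    Matrix.SpecialLinearGroup (Fin 2) F →* oGroup Q :=
  MonoidHom.mk' (fun g => ⟨LinearEquiv.ofLinearMap (act Q a b c d g.1) (act Q a b c d (g⁻¹).1)
      (LinearMap.ext fun x => by
        rw [LinearMap.comp_apply, LinearMap.id_apply, ← h.act_mul,
          ← Matrix.SpecialLinearGroup.coe_mul, mul_inv_cancel, Matrix.SpecialLinearGroup.coe_one, act_one])
      (LinearMap.ext fun x => by
        rw [LinearMap.comp_apply, LinearMap.id_apply, ← h.act_mul,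
          ← Matrix.SpecialLinearGroup.coe_mul, inv_mul_cancel, Matrix.SpecialLinearGroup.coe_one, act_one]),
      fun x => h.act_preserves g.2 x⟩)
    fun g g' => Subtype.ext (LinearEquiv.ext fun x => h.act_mul g.1 g'.1 x)

theorem Dual.hom_apply (h : Dual Q a b c d) (g : Matrix.SpecialLinearGroup (Fin 2) F) (x : V) :
    (h.hom g).1 x = act Q a b c d g.1 x := rfl

theorem Dual.hom_up (h : Dual Q a b c d) (g : Matrix.SpecialLinearGroup (Fin 2) F) (t : F)
    (hg : g.1 = !![1, t; 0, 1]) : h.hom g = siegel Q a (t • b) := by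
  refine Subtype.ext (LinearEquiv.ext fun x => ?_)
  rw [h.hom_apply, siegel_apply h.qa (by rw [polar_smul_right, h.ab, smul_zero]), quad_smul, h.qb,
    polar_smul_right, smul_eq_mul, hg]
  simp [act]
  module

theorem Dual.hom_low (h : Dual Q a b c d) (g : Matrix.SpecialLinearGroup (Fin 2) F) (t : F)
    (hg : g.1 = !![1, 0; t, 1]) : h.hom g = siegel Q c (-t • d) := by
  refine Subtype.ext (LinearEquiv.ext fun x => ?_)
  rw [h.hom_apply, siegel_apply h.qc (by rw [polar_smul_right, h.cd, smul_zero]), quad_smul, h.qd,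
    polar_smul_right, smul_eq_mul, hg]
  simp [act]
  module

variable [Finite F] {F₀ : Subfield F}

/-- Opposite root groups over `F₀` and `F₀ lam` give the root element of parameter `lam`. -/
theorem Dual.siegel_mem (h : Dual Q a b c d) (h2 : (2 : F) ≠ 0) {r : ℕ} (hr : r.Prime)
    (hcard : Nat.card F = Nat.card F₀ ^ r) (hexc : ¬ (Nat.card F₀ = 3 ∧ r = 2))
    (M : Subgroup (oGroup Q)) {lam : F} (hlam : lam ∉ F₀)
    (hup : ∀ t ∈ F₀, siegel Q a (t • b) ∈ M)
    (hlow : ∀ t ∈ F₀, siegel Q c ((t * lam) • d) ∈ M) : siegel Q a (lam • b) ∈ M := by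
  classical
  have hlam0 : lam ≠ 0 := fun h0 => hlam (h0 ▸ F₀.zero_mem)
  by_cases h3 : Nat.card F₀ = 3
  · -- the prime field of three elements
    haveI := Fintype.ofFinite F
    haveI := Fintype.ofFinite F₀
    have h30 : (3 : F) = 0 := by
      have h1 : ((Fintype.card F₀ : ℕ) : F₀) = 0 := Nat.cast_card_eq_zero F₀
      rw [← Nat.card_eq_fintype_card, h3] at h1
      have h4 := congrArg F₀.subtype h1
      rw [map_natCast, map_zero] at h4
      exact_mod_cast h4
    haveI : CharP F 3 := (CharP.charP_iff_prime_eq_zero Nat.prime_three).2 (by exact_mod_cast h30)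
    have hS0 : ∀ x ∈ F₀, x ∈ Subfield.closure ({lam} : Set F) := fun x hx => by
      have h1 : x ^ 3 = x := by
        have h1 := FiniteField.pow_card (⟨x, hx⟩ : F₀)
        rw [← Nat.card_eq_fintype_card, h3] at h1
        simpa using congrArg Subtype.val h1
      rcases mul_eq_zero.1 (show x * ((x - 1) * (x + 1)) = 0 by linear_combination h1) with e | e
      · rw [e]; exact zero_mem _
      rcases mul_eq_zero.1 e with e | e
      · rw [sub_eq_zero.1 e]; exact one_mem _
      · rw [eq_neg_of_add_eq_zero_left e]; exact neg_mem (one_mem _)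
    have hgen : Subfield.closure ({lam} : Set F) = ⊤ := eq_top_iff.2 fun x _ =>
      eq_univ_of_subring' hr hcard (S := (Subfield.closure ({lam} : Set F) : Set F)) hS0
        (fun _ hu _ hv => add_mem hu hv) (fun _ hu _ hv => mul_mem hu hv)
        (Subfield.subset_closure rfl) hlam x
    have hne9 : ¬ (Fintype.card F = 9 ∧ lam ^ 2 = -1) := fun h9 => hexc ⟨h3, by
      have := h9.1
      rw [← Nat.card_eq_fintype_card, hcard, h3, show 9 = 3 ^ 2 from rfl] at this
      exact Nat.pow_right_injective (by norm_num) this⟩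
    have htop := CfsgLib.Linear.DicksonGen.two_top_of_three hlam0 hgen hne9
    have hle : CfsgLib.Linear.DicksonGen.two lam ≤ M.comap h.swap.hom := by
      refine (Subgroup.closure_le _).2 ?_
      rintro g (rfl | rfl)
      · rw [SetLike.mem_coe, Subgroup.mem_comap,
          h.swap.hom_low _ 1 CfsgLib.Linear.DicksonGen.lo_coe]
        exact hup _ (F₀.neg_mem F₀.one_mem)
      · rw [SetLike.mem_coe, Subgroup.mem_comap,
          h.swap.hom_up _ lam (CfsgLib.Linear.DicksonGen.hi_coe lam)]
        simpa using hlow 1 F₀.one_mem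
    have hm := hle (htop.ge (Subgroup.mem_top (CfsgLib.QP.low (-lam))))
    rw [Subgroup.mem_comap, h.swap.hom_low _ (-lam) (CfsgLib.QP.low_coe _), neg_neg] at hm
    exact hm
  have hA : Algebra.adjoin F₀ {lam} = (⊤ : Subalgebra F₀ F) := eq_top_iff.2 fun x _ =>
    eq_univ_of_subring' hr hcard (S := (Algebra.adjoin F₀ {lam} : Set F))
      (fun u hu => (Algebra.adjoin F₀ {lam}).algebraMap_mem ⟨u, hu⟩)
      (fun _ hu _ hv => add_mem hu hv) (fun _ hu _ hv => mul_mem hu hv)
      (Algebra.subset_adjoin rfl) hlam x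
  have hle : CfsgLib.QP.gen F₀ lam ≤ M.comap h.hom := by
    refine (Subgroup.closure_le _).2 ?_
    rintro g (⟨t, rfl⟩ | ⟨t, rfl⟩)
    · rw [SetLike.mem_coe, Subgroup.mem_comap, h.hom_up _ _ (CfsgLib.QP.up_coe _)]
      exact hup _ t.2
    · rw [SetLike.mem_coe, Subgroup.mem_comap, h.hom_low _ _ (CfsgLib.QP.low_coe _),
        Algebra.smul_def, neg_mul_eq_neg_mul]
      exact hlow _ (F₀.neg_mem t.2)
  have h20 : (2 : F₀) ≠ 0 := fun e => h2 (congrArg Subtype.val e)
  have hm := hle (CfsgLib.QP.gen_contains h20 h3 (isUnit_iff_ne_zero.2 hlam0) hA lam).1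
  rwa [Subgroup.mem_comap, h.hom_up _ _ (CfsgLib.QP.up_coe _)] at hm

end CfsgLib.Geo.OS.Low
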